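import Cfsg.Agent.CGT.Mat3
import Cfsg.Agent.CGT.Out3
import Cfsg.Prelude.Def_Transfer
import Cfsg.Prelude.Def_Solvable
/-!
# Certificates for centralisers of elements and their structure
-/
set_option autoImplicit false

namespace Cfsg.Agent.Inv
open Cfsg Cfsg.Agent.CGT Equiv Subgroup
open scoped commutatorElement

universe u v
variable {G : Type u} [Group G]

/-- a bound for the stabiliser of some points in a centraliser -/
def CB (φ : G →* Perm ℕ) (t : G) (F : List ℕ) (m : ℕ) : Prop := Bd (St φ (centralizer {t}) F) m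

section
variable {φ : G →* Perm ℕ} {γ : ℕ → G} {ns : List Net} {S : Srch}

theorem CB.base {t : G} {k : ℕ} {F : List ℕ} (hx : ChainExact φ ⊤ k F []) : CB φ t F 1 :=
  Bd.bot.mono fun x h => hx x ⟨trivial, h.2⟩

theorem CB.forced {F : List ℕ} {l : Level} {ls : List Level} {b m : ℕ} {lk : List ℕ}
    (ha : S.Aux φ γ ⊤ F (l :: ls) ((b + 1) :: lk)) (h : CB φ (ev (ext γ) S.u) (l.b :: F) m) :
    CB φ (ev (ext γ) S.u) F m := h.mono fun x hx => ⟨hx.1, fun c hc => by
  rcases List.mem_cons.1 hc with rfl | hc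
  · obtain ⟨h1, -, h2⟩ := ha.1.2.2 b rfl
    rw [← h2, ← Perm.mul_apply, ← map_mul, mem_centralizer_singleton_iff.1 hx.1, map_mul,
      Perm.mul_apply, hx.2 b h1]
  · exact hx.2 c hc⟩

theorem grow_sound' {k : ℕ} {ts : List Tab} (M : Model φ γ k ns ts) {L : Subgroup G}
    {W : List (List ℕ)} (hS : ∀ u ∈ W, ev (ext γ) u ∈ L) {R : ℕ} (cs : List ℕ) {O : ℕ}
    (hO : ∀ j, O.testBit j = true → ∃ x ∈ L, R.testBit (φ x j) = true) :
    ∀ j, (grow ns W cs O).testBit j = true → ∃ x ∈ L, R.testBit (φ x j) = true := by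
  induction cs generalizing O with
  | nil => exact hO
  | cons c cs ih =>
    rw [grow_cons]
    refine ih fun j hj => ?_
    rw [Nat.testBit_or, Bool.or_eq_true, M.gatW] at hj
    rcases hj with hj | hj
    · exact hO j hj
    · obtain ⟨x, hx, e⟩ := hO _ hj
      have hu : ev (ext γ) (nth [] W c) ∈ L := by
        rcases Enum.nth_mem_or [] W c with h' | h'
        · rw [h']; exact L.one_mem
        · exact hS _ h'
      exact ⟨_, L.mul_mem hx hu, by rwa [map_mul, Perm.mul_apply]⟩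

/-- the words commute with `u` -/
noncomputable def commB (k : ℕ) (ts : List Tab) (B u : List ℕ) (W : List (List ℕ)) : Bool :=
  ptsOK k B && allL W fun w => eqB k ts B (app w u) (app u w)

theorem commB_sound {k : ℕ} {ts : List Tab} (M : Model φ γ k ns ts) {B : List ℕ} (hB : IsBase φ ⊤ B)
    {u : List ℕ} {W : List (List ℕ)} (h : commB k ts B u W = true) :
    ∀ w ∈ W, ev (ext γ) w ∈ centralizer {ev (ext γ) u} := fun w hw => by
  rw [commB, Bool.and_eq_true] at h
  have := eqB_sound M hB h.1 trivial trivial (allL_iff.1 h.2 w hw)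
  rwa [ev_app, ev_app, ← mem_centralizer_singleton_iff] at this

/-- the test of a free level -/
noncomputable def freeB (S : Srch) (ns : List Net) (F : List ℕ) (l : Level) (R : ℕ) (W : List (List ℕ))
    (cs : List ℕ) (O n : ℕ) : Bool :=
  commB S.k S.ts S.B S.u W && (ptsOK S.k F && (allL W fun w => fixesB S.k S.ts w F) && (!(tb R l.b) &&
    (Nat.beq (Nat.land l.O (Nat.lor O (grow ns W cs R))) l.O &&
      (Nat.beq (Nat.shiftRight O (Nat.pow 2 (Nat.add (Nat.sub S.k 3) 3))) 0 &&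
        Nat.beq (popc (Nat.sub S.k 3) O) n))))

theorem CB.free [Finite G] (M : Model φ γ S.k ns S.ts) (hB : IsBase φ ⊤ S.B) (hu : S.u' = S.u)
    (hC : S.Cl = []) {F : List ℕ} {l : Level} {ls : List Level} (hx : ChainExact φ ⊤ S.k F (l :: ls))
    {R : ℕ} (hf : S.Found φ γ ⊤ F l.b R) {W : List (List ℕ)} {cs : List ℕ} {O n m : ℕ}
    (h : freeB S ns F l R W cs O n = true) (hm : CB φ (ev (ext γ) S.u) (l.b :: F) m) :
    CB φ (ev (ext γ) S.u) F (n * m) := by
  simp only [freeB, Bool.and_eq_true, Bool.not_eq_true', tb_eq, Nat.beq_eq] at h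
  obtain ⟨h1, ⟨h2, h3⟩, h4, h5, h6, h7⟩ := h
  refine ⟨inferInstance, ?_⟩
  rw [card_St φ _ l.b F]
  refine Nat.mul_le_mul ?_ hm.2
  rw [← h7, ← ncard_bits h6]
  refine Set.ncard_le_ncard ?_ (finite_bits O)
  rintro _ ⟨c, hc, rfl⟩
  have h8 := hx.1.2 c ⟨trivial, hc.2⟩
  rw [← h5, land_eq, lor_eq, Nat.testBit_and, Nat.testBit_or, Bool.and_eq_true, Bool.or_eq_true] at h8
  refine h8.2.resolve_right fun h9 => ?_
  obtain ⟨x, hx, e⟩ := grow_sound' M (L := St φ (centralizer {ev (ext γ) S.u}) F)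
    (fun w hw => ⟨commB_sound M hB h1 w hw, fixesB_sound M h2 (allL_iff.1 h3 w hw)⟩) cs
    (fun j hj => ⟨1, one_mem _, by simpa using hj⟩) _ h9
  rw [← Perm.mul_apply, ← map_mul] at e
  have h10 := mul_mem hx hc
  obtain ⟨j, hj⟩ := hf _ ⟨trivial, h10.2⟩ (by rw [hu]; exact mem_centralizer_singleton_iff.1 h10.1) e
  rw [hj, hC] at e
  simp [nth, h4] at e

theorem found_zero {F : List ℕ} {b : ℕ} : S.Found φ γ ⊤ F b 0 := fun _ _ _ h => by simp at h

end

/-- the first `m` generators -/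
def tk (γ : ℕ → G) (m j : ℕ) : G := if j < m then γ j else 1

theorem validAll_take {B : ℕ} {ns : List Net} (h : validAll B ns = true) (m : ℕ) :
    validAll B (ns.take m) = true := by
  induction ns generalizing m with
  | nil => simpa using h
  | cons n l ih =>
    cases m with
    | zero => rfl
    | succ m =>
      have h : (Net.valid B n && validAll B l) = true := h
      rw [Bool.and_eq_true] at h
      show (Net.valid B n && validAll B (l.take m)) = true
      rw [h.1, ih h.2]; rfl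

theorem nth_take {α : Type} (d : α) (l : List α) (m j : ℕ) :
    nth d (l.take m) j = if j < m then nth d l j else d := by
  simp only [nth_eq, List.getD_eq_getElem?_getD, List.getElem?_take]
  split_ifs <;> rfl

theorem model_take {φ : G →* Perm ℕ} {γ : ℕ → G} {k : ℕ} {ns ns' : List Net} {ts ts' : List Tab}
    (M : Model φ γ k ns ts) {m : ℕ} (h1 : ns.take m = ns') (h2 : ts.take (2 * m) = ts') :
    Model φ (tk γ m) k ns' ts' := by
  subst h1 h2
  have h : ∀ j, netPerm (ns.take m) j = tk (netPerm ns) m j := fun j => by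
    rw [netPerm, nth_take, tk]; split_ifs <;> rfl
  refine ⟨validAll_take M.valid m, fun j => ?_, fun a => ?_⟩
  · rw [h, tk, tk]; split_ifs
    · exact M.gen j
    · exact map_one _
  · have := M.tabs a
    unfold CGT.lp CGT.ext at this ⊢
    rw [nth_take, h, tk]
    by_cases ha : a < 2 * m
    · rwa [if_pos ha, if_pos (show a / 2 < m by omega)]
    · rw [if_neg ha, if_neg (show ¬ a / 2 < m by omega)]
      intro i _; simp; rfl

/-- the single letters -/
noncomputable def lets (m : ℕ) : List (List ℕ) := (List.range m).map fun j => [2 * j]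

/-- the certificate for the centraliser -/
theorem cert_cent {φ : G →* Perm ℕ} {γ : ℕ → G} {k : ℕ} {ns ns' : List Net} {ts ts' : List Tab}
    (M : Model φ γ k ns ts) {B : List ℕ} (hB : IsBase φ ⊤ B) {m : ℕ} (h1 : ns.take m = ns')
    (h2 : ts.take (2 * m) = ts') {u : List ℕ} (hc : commB k ts B u (lets m) = true) {n : ℕ}
    (hb : CB φ (ev (ext γ) u) [] n) {L : List ℕ} {ls : List Level}
    (hs : ∀ {H : Type u} [Group H] {φ : H →* Perm ℕ} {γ : ℕ → H}, Model φ γ k ns' ts' →
      ChainSound φ (gp γ L) k [] ls) (e : Nat.ble n (chainCard ls) = true) :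
    ∃ δ : ℕ → centralizer {ev (ext γ) u}, (∀ j, (δ j : G) = tk γ m j) ∧
      Cert (φ.comp (Subgroup.subtype _)) δ k ns' ts' L ls := by
  have M' := model_take M h1 h2
  have h3 : ∀ j, tk γ m j ∈ centralizer {ev (ext γ) u} := fun j => by
    rw [tk]; split_ifs with h
    · simpa [ext_two_mul] using commB_sound M hB hc [2 * j] (List.mem_map.2 ⟨j, List.mem_range.2 h, rfl⟩)
    · exact one_mem _
  have M'' : Model (φ.comp (Subgroup.subtype _)) (fun j => (⟨_, h3 j⟩ : centralizer {ev (ext γ) u}))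
    k ns' ts' := ⟨M'.valid, M'.gen, M'.tabs⟩
  rw [CB, St_nil] at hb
  exact ⟨_, fun _ => rfl, Cert.of_card M'' (hs M'') hb e⟩

/-- the test of one new letter -/
noncomputable def extJ (k : ℕ) (ns ns' : List Net) (W : List (List ℕ)) (j : ℕ) : Bool :=
  allLt k fun t => Nat.beq (gatW ns (nth [] W j) (sl t k)) (gat ns' (Nat.mul 2 j) (sl t k))

theorem extOK_of {k : ℕ} {ns ns' : List Net} {W : List (List ℕ)} (hl : W.length = ns'.length)
    (h : ∀ j < W.length, extJ k ns ns' W j = true) : extOK k ns ns' W = true := by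
  rw [extOK, Bool.and_eq_true]
  exact ⟨by simp [hl], allLt_iff.2 h⟩

/-- new generators containing the old ones -/
theorem cert_extend {φ : G →* Perm ℕ} {γ : ℕ → G} {k : ℕ} {ns ns' : List Net} {ts ts' : List Tab}
    {L L' : List ℕ} {ls ls' : List Level} (C : Cert φ γ k ns ts L ls) (hv : validAll (2 ^ k) ns' = true)
    {W : List (List ℕ)} (h : extOK k ns ns' W = true) (ht : TabsOK k (lp ns') ts')
    (hs : ∀ {H : Type u} [Group H] {φ : H →* Perm ℕ} {γ : ℕ → H}, Model φ γ k ns' ts' →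
      ChainSound φ (gp γ L') k [] ls') (e : Nat.ble (chainCard ls) (chainCard ls') = true) :
    Cert φ (wg γ W) k ns' ts' L' ls' :=
  Cert.of_card (C.M.extend hv h ht) (hs (C.M.extend hv h ht)) ⟨C.fin, C.card.le⟩ e

theorem Cert.eq_one {φ : G →* Perm ℕ} {γ : ℕ → G} {k : ℕ} {ns : List Net} {ts : List Tab}
    {L : List ℕ} {ls : List Level} (C : Cert φ γ k ns ts L ls) {j : ℕ} (h : ns.length ≤ j) : γ j = 1 :=
  C.injective (by rw [C.M.gen, netPerm_of_le ns h, map_one])

/-- the letters of `L` are words in the derived generators -/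
noncomputable def genB (k : ℕ) (ts : List Tab) (B : List ℕ) (W : List (List ℕ)) (L : List ℕ)
    (U : List (List ℕ)) : Bool :=
  ptsOK k B && allLt L.length fun i => eqB k ts B (expand (dbl W) (nth [] U i)) [nth 0 L i]

/-- a surjective homomorphism from a presentation -/
theorem exists_surj {K : Type v} [Group K] {φ : G →* Perm ℕ} {γ : ℕ → G} {k : ℕ} {ns : List Net}
    {ts : List Tab} {L : List ℕ} {ls : List Level} (C : Cert φ γ k ns ts L ls) {ψ : K →* Perm ℕ}
    {y : ℕ → K} {k' : ℕ} {ns' : List Net} {ts' : List Tab} {L' : List ℕ} {ls' : List Level}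
    (C' : Cert ψ y k' ns' ts' L' ls') {R W U : List (List ℕ)} {N : ℕ}
    (bd : ∀ {X : Type (max u v)} [Group X] {δ : ℕ → X}, Holds (ext δ) R → Bd (gp δ L) N)
    (h : (Nat.beq (chainCard ls) N && (Nat.ble W.length ns.length &&
      ((allLt ns.length fun j => memL (Nat.mul 2 j) L) && (ptsOK k (chainBase [] ls) &&
        (relsB k ts (chainBase [] ls) R && (relsD k' ts' W (chainBase [] ls') R &&
          genB k' ts' (chainBase [] ls') W L' U)))))) = true) :
    ∃ f : G →* K, Function.Surjective f ∧ ∀ j, f (γ j) = wg y W j := by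
  simp only [Bool.and_eq_true, Nat.beq_eq, Nat.ble_eq, genB] at h
  obtain ⟨h1, h2, h3, h4, h5, h6, h7, h8⟩ := h
  have := C.fin
  obtain ⟨f, hf⟩ := hom_of_bound C.gen (C.card.trans h1) (bd (Holds.pair
    (relsB_sound C.M C.base h4 (fun _ _ => trivial) h5)
    (relsD_sound C'.M C'.base h7 (fun _ _ => trivial) h6))) (fun _ => Cert.eq_one C)
    (fun j hj => by rw [wg, nth_eq, List.getD_eq_default _ _ (by omega)]; rfl) h3
  refine ⟨f, MonoidHom.range_eq_top.1 (eq_top_iff.2 ?_), hf⟩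
  rw [← C'.gen]
  refine gp_le fun a ha => ?_
  obtain ⟨i, hi, rfl⟩ := List.getElem_of_mem ha
  have h9 := eqB_sound C'.M C'.base h7 trivial trivial (allLt_iff.1 h8 i hi)
  rw [ev_expand_dbl, ev_singleton, nth_eq 0, List.getD_eq_getElem _ _ hi] at h9
  refine ⟨ev (ext γ) (nth [] U i), ?_⟩
  rw [← h9, map_ev]
  congr 1
  funext a
  rw [map_ext]; simp only [hf]

theorem equiv_of_surj {K : Type v} [Group K] [Finite G] {f : G →* K} (hf : Function.Surjective f)
    (h : Nat.card G = Nat.card K) : Nonempty (G ≃* K) :=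
  ⟨MulEquiv.ofBijective f ((Nat.bijective_iff_surjective_and_card f).2 ⟨hf, h⟩)⟩

theorem card_ker_mul {K : Type v} [Group K] {f : G →* K} (hf : Function.Surjective f) :
    Nat.card f.ker * Nat.card K = Nat.card G := by
  rw [← card_mul_index f.ker, index_ker, MonoidHom.range_eq_top.2 hf, card_top]

/-- the word is an involution -/
noncomputable def ord2B (k : ℕ) (ts : List Tab) (B u : List ℕ) (b : ℕ) : Bool :=
  ptsOK k B && (eqB k ts B (app u u) [] && (Nat.ble b (msk k) && !(Nat.beq (ap k (msk k) ts u b) b)))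

theorem ne_one_of_ap {φ : G →* Perm ℕ} {γ : ℕ → G} {k : ℕ} {ns : List Net} {ts : List Tab}
    (M : Model φ γ k ns ts) {u v : List ℕ} {b : ℕ} (h1 : Nat.ble b (msk k) = true)
    (h2 : Nat.beq (ap k (msk k) ts u b) (ap k (msk k) ts v b) = false) :
    ev (ext γ) u ≠ ev (ext γ) v := fun e => by
  rw [M.ap' u (lt_of_ble_msk h1), M.ap' v (lt_of_ble_msk h1), e] at h2
  simp at h2

theorem ord2B_sound {φ : G →* Perm ℕ} {γ : ℕ → G} {k : ℕ} {ns : List Net} {ts : List Tab}
    (M : Model φ γ k ns ts) {B : List ℕ} (hB : IsBase φ ⊤ B) {u : List ℕ} {b : ℕ}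
    (h : ord2B k ts B u b = true) : orderOf (ev (ext γ) u) = 2 := by
  simp only [ord2B, Bool.and_eq_true, Bool.not_eq_true'] at h
  have h1 := eqB_sound M hB h.1 trivial trivial h.2.1
  rw [ev_app] at h1
  exact orderOf_eq_prime (by rw [sq, h1]; rfl) (ne_one_of_ap M (v := []) h.2.2.1 h.2.2.2)

/-! ### Lists of elements -/

/-- the list `E` is closed under multiplication by the letters of `L` -/
noncomputable def closB (k : ℕ) (ts : List Tab) (B L : List ℕ) (E : List (List ℕ))
    (P : List (List ℕ × List ℕ)) : Bool :=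
  ptsOK k B && allL P fun p => allLt L.length fun i =>
    eqB k ts B (nth 0 L i :: p.1) (nth [] E (nth 0 p.2 i))

theorem mem_list [Finite G] {φ : G →* Perm ℕ} {γ : ℕ → G} {k : ℕ} {ns : List Net} {ts : List Tab}
    (M : Model φ γ k ns ts) {B : List ℕ} (hB : IsBase φ ⊤ B) {L : List ℕ} {E : List (List ℕ)}
    {P : List (List ℕ × List ℕ)} (hE : [] ∈ E) (hP : P.map Prod.fst = E)
    (h : closB k ts B L E P = true) {x : G} (hx : x ∈ gp γ L) : ∃ e ∈ E, ev (ext γ) e = x := by
  rw [closB, Bool.and_eq_true] at h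
  have h1 : x ∈ Submonoid.closure {x | ∃ a ∈ L, ext γ a = x} := by
    rw [← closure_toSubmonoid_of_finite]; exact hx
  induction h1 using Submonoid.closure_induction_left with
  | one => exact ⟨[], hE, rfl⟩
  | mul_left a ha x hx' ih =>
    obtain ⟨a, ha, rfl⟩ := ha
    obtain ⟨e, he, rfl⟩ := ih (by rw [gp, ← mem_toSubmonoid, closure_toSubmonoid_of_finite]; exact hx')
    obtain ⟨i, hi, rfl⟩ := List.getElem_of_mem ha
    obtain ⟨p, hp, rfl⟩ := List.mem_map.1 (hP ▸ he)
    have h2 := eqB_sound M hB h.1 trivial trivial (allLt_iff.1 (allL_iff.1 h.2 p hp) i hi)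
    rw [ev_cons, nth_eq 0 L, List.getD_eq_getElem _ _ hi] at h2
    refine ⟨_, ?_, h2.symm⟩
    rcases Enum.nth_mem_or [] E (nth 0 p.2 i) with h3 | h3
    · rw [h3]; exact hE
    · exact h3

theorem card_le_of_list {γ : ℕ → G} {K : Subgroup G} {E : List (List ℕ)}
    (h : ∀ x ∈ K, ∃ e ∈ E, ev (ext γ) e = x) : Nat.card K ≤ E.length := by
  classical
  refine le_trans ?_ ((List.toFinset_card_le (E.map (ev (ext γ)))).trans (List.length_map _).le)
  rw [← Set.ncard_coe_finset, ← SetLike.coe_sort_coe, Nat.card_coe_set_eq]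
  exact Set.ncard_le_ncard (fun x hx => by simpa using h x hx) (Finset.finite_toSet _)

theorem exists_conj_mem [Finite G] {P : Subgroup G} {n : ℕ} (hP : Nat.card P = 2 ^ n)
    (hG : ¬ 2 ^ (n + 1) ∣ Nat.card G) {x : G} (hx : orderOf x = 2) : ∃ g, g * x * g⁻¹ ∈ P := by
  have h1 : IsPGroup 2 P := IsPGroup.of_card hP
  have h2 : ¬ 2 ∣ P.index := fun h => hG (by
    rw [← P.card_mul_index, hP, pow_succ]; exact Nat.mul_dvd_mul_left _ h)
  have h3 : IsPGroup 2 (zpowers x) := IsPGroup.of_card (n := 1) (by rw [Nat.card_zpowers, hx]; rfl)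
  obtain ⟨Q, hQ⟩ := h3.exists_le_sylow
  obtain ⟨g, hg⟩ := MulAction.exists_smul_eq G Q (h1.toSylow h2)
  refine ⟨g, ?_⟩
  have : g * x * g⁻¹ ∈ (g • Q : Sylow 2 G) := smul_mem_pointwise_smul _ (MulAut.conj g) _ (hQ (mem_zpowers x))
  rwa [hg] at this

/-- each listed element is trivial, not an involution, or conjugate to `t` -/
noncomputable def invB (k : ℕ) (ts : List Tab) (B t : List ℕ) (P : List (List ℕ × List ℕ × ℕ)) : Bool :=
  ptsOK k B && allL P fun p => Nat.beq p.1.length 0 ||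
    ((Nat.ble p.2.2 (msk k) && !(Nat.beq (ap k (msk k) ts (app p.1 p.1) p.2.2) p.2.2)) ||
      eqB k ts B (app p.2.1 p.1) (app t p.2.1))

theorem isConj_of_list [Finite G] {φ : G →* Perm ℕ} {γ : ℕ → G} {k : ℕ} {ns : List Net} {ts : List Tab}
    (M : Model φ γ k ns ts) {B : List ℕ} (hB : IsBase φ ⊤ B) {L : List ℕ} {E : List (List ℕ)}
    (hE : ∀ x ∈ gp γ L, ∃ e ∈ E, ev (ext γ) e = x) {ls : List Level}
    (hs : ChainSound φ (gp γ L) k [] ls) {n N : ℕ} (hN : Nat.card G = N) {t : List ℕ}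
    {P : List (List ℕ × List ℕ × ℕ)} (hP : P.map Prod.fst = E) (h1 : E.length = 2 ^ n)
    (h2 : chainCard ls = 2 ^ n) (h3 : ¬ 2 ^ (n + 1) ∣ N) (h : invB k ts B t P = true) (x y : G)
    (hx : orderOf x = 2) (hy : orderOf y = 2) : IsConj x y := by
  rw [invB, Bool.and_eq_true] at h
  have h4 := hs.le_card
  rw [St_nil] at h4
  have key : ∀ x : G, orderOf x = 2 → IsConj x (ev (ext γ) t) := by
    intro x hx
    obtain ⟨g, hg⟩ := exists_conj_mem (le_antisymm (h1 ▸ card_le_of_list hE) (h2 ▸ h4)) (hN ▸ h3) hx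
    obtain ⟨e, he, e1⟩ := hE _ hg
    obtain ⟨p, hp, rfl⟩ := List.mem_map.1 (hP ▸ he)
    have h5 : orderOf (ev (ext γ) p.1) = 2 := by
      rw [e1, ← hx]; exact (SemiconjBy.orderOf_eq g (by simp [SemiconjBy])).symm
    have h6 := allL_iff.1 h.2 p hp
    simp only [Bool.or_eq_true, Bool.and_eq_true, Bool.not_eq_true', Nat.beq_eq] at h6
    rcases h6 with h6 | h6 | h6
    · rw [List.length_eq_zero_iff.1 h6] at h5; simp at h5
    · refine absurd ?_ (ne_one_of_ap M (v := []) h6.1 h6.2)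
      rw [ev_app, ← sq, ← h5, pow_orderOf_eq_one]; rfl
    · have h7 := eqB_sound M hB h.1 trivial trivial h6
      rw [ev_app, ev_app] at h7
      exact (isConj_iff.2 ⟨g, e1.symm⟩).trans (isConj_iff.2 ⟨_, mul_inv_eq_iff_eq_mul.2 h7⟩)
  exact (key x hx).trans (key y hy).symm

/-! ### Extraspecial groups and cores -/

theorem isExtraspecial_two {Q : Type u} [Group Q] [Finite Q] (hp : IsPGroup 2 Q) {z : Q}
    (hz : orderOf z = 2) (hc : center Q = zpowers z) (hd : commutator Q ≤ zpowers z)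
    (hn : 2 < Nat.card Q) : IsExtraspecial 2 Q := by
  classical
  have hz1 : z ≠ 1 := fun e => by simp [e] at hz
  have hzz : ∀ x ∈ zpowers z, x = 1 ∨ x = z := fun x hx => by
    rw [mem_zpowers_iff_mem_range_orderOf, hz] at hx
    obtain ⟨i, hi, rfl⟩ := Finset.mem_image.1 hx
    have := Finset.mem_range.1 hi
    interval_cases i <;> simp
  have hcomm : ∀ a b : Q, a * b ≠ b * a → ⁅a, b⁆ = z := fun a b h =>
    (hzz _ (hd (commutator_mem_commutator (mem_top a) (mem_top b)))).resolve_left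
      fun e => h (commutatorElement_eq_one_iff_mul_comm.1 e)
  obtain ⟨a, b, hab⟩ : ∃ a b : Q, a * b ≠ b * a := by
    by_contra h
    push Not at h
    have : center Q = ⊤ := eq_top_iff.2 fun x _ => mem_center_iff.2 fun y => h y x
    rw [← card_top, ← this, hc, Nat.card_zpowers, hz] at hn
    omega
  have hzc : z ∈ center Q := hc ▸ mem_zpowers z
  refine ⟨⟨hp, le_antisymm (fun x hx => ?_) ?_, le_antisymm (hc ▸ hd) ?_⟩, ?_⟩
  · by_contra h
    obtain ⟨y, hy⟩ : ∃ y, y * x ≠ x * y := by simpa [mem_center_iff] using h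
    refine hy (mem_centralizer_singleton_iff.1 (frattini_le_coatom (K := centralizer {y})
      ⟨fun e => hy (mem_centralizer_singleton_iff.1 (e ▸ mem_top x)).symm, fun K hK => ?_⟩ hx)).symm
    obtain ⟨w, hw, hw'⟩ := SetLike.exists_of_lt hK
    refine eq_top_iff.2 fun g _ => ?_
    by_cases hg : g ∈ centralizer {y}
    · exact hK.le hg
    · rw [mem_centralizer_singleton_iff] at hg hw'
      have h1 := (hcomm _ _ hg).trans (hcomm _ _ hw').symm
      refine (K.mul_mem_cancel_left (inv_mem hw)).1 (hK.le (mem_centralizer_singleton_iff.2 ?_))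
      simp only [commutatorElement_def, mul_left_inj] at h1
      calc w⁻¹ * g * y = w⁻¹ * (g * y * g⁻¹) * g := by group
        _ = _ := by rw [h1]; group
  · rw [hc, zpowers_le, frattini, Order.radical, mem_iInf]
    intro M
    rw [mem_iInf]
    intro hM
    by_contra h
    have h1 : M ⊔ zpowers z = ⊤ := hM.2 _ (left_lt_sup.2 fun e => h (e (mem_zpowers z)))
    have : (zpowers z).Normal := hc ▸ inferInstance
    have h2 : ∀ g : Q, ∃ m ∈ M, ∃ c ∈ center Q, m * c = g := fun g => by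
      have h3 : g ∈ ((M ⊔ zpowers z : Subgroup Q) : Set Q) := h1 ▸ mem_top g
      rw [mul_normal] at h3
      obtain ⟨m, hm, c, hc', e⟩ := h3
      exact ⟨m, hm, c, hc ▸ hc', e⟩
    obtain ⟨m, hm, c, hc1, rfl⟩ := h2 a
    obtain ⟨m', hm', c', hc2, rfl⟩ := h2 b
    refine h (hcomm m m' (fun e => hab ?_) ▸ mul_mem (mul_mem (mul_mem hm hm') (inv_mem hm)) (inv_mem hm'))
    exact (Commute.mul_right e (mem_center_iff.1 hc2 m)).mul_left (mem_center_iff.1 hc1 _).symm
  · rw [hc, zpowers_le, ← hcomm a b hab]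
    exact commutator_mem_commutator (mem_top a) (mem_top b)
  · rw [hc, Nat.card_zpowers, hz]

theorem pCore_eq_ker {K : Type v} [Group K] {f : G →* K} (hf : Function.Surjective f) {p : ℕ}
    (h1 : IsPGroup p f.ker) (h2 : ∀ N : Subgroup K, N.Normal → IsPGroup p N → N = ⊥) :
    pCore p G = f.ker :=
  le_antisymm (sSup_le fun N hN => (map_eq_bot_iff N).1 (h2 _ (hN.1.map f hf) (hN.2.map f)))
    (le_sSup ⟨inferInstance, h1⟩)

/-- the first orbit contains the base and has `n` points -/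
noncomputable def transB (k : ℕ) (l : Level) (B : List ℕ) (n : ℕ) : Bool :=
  (allL B fun b => tb l.O b) && (Nat.beq (Nat.shiftRight l.O (Nat.pow 2 (Nat.add (Nat.sub k 3) 3))) 0 &&
    Nat.beq (popc (Nat.sub k 3) l.O) n)

theorem normal_eq_bot {φ : G →* Perm ℕ} {γ : ℕ → G} {k : ℕ} {ns : List Net} {ts : List Tab}
    {L : List ℕ} {l : Level} {ls : List Level} (C : Cert φ γ k ns ts L (l :: ls)) {n p : ℕ}
    [Fact p.Prime] (h : transB k l (chainBase [] (l :: ls)) n = true) (hp : ¬ p ∣ n) (N : Subgroup G)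
    (hN : N.Normal) (h1 : IsPGroup p N) : N = ⊥ := by
  simp only [transB, Bool.and_eq_true, Nat.beq_eq, allL_iff, tb_eq] at h
  let _ := MulAction.compHom ℕ φ
  have h2 : MulAction.orbit G l.b = {i | l.O.testBit i = true} := by
    ext i
    refine ⟨?_, fun hi => ?_⟩
    · rintro ⟨g, rfl⟩; exact C.exact.1.2 g ⟨trivial, by simp⟩
    · obtain ⟨g, -, e⟩ := C.sound.1.2.1 i hi; exact ⟨g, e⟩
  obtain ⟨⟨_, g, rfl⟩, hg⟩ := h1.nonempty_fixed_point_of_prime_not_dvd_card (MulAction.orbit G l.b) (by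
    rwa [Nat.card_coe_set_eq, h2, ncard_bits h.2.1, h.2.2])
  refine eq_bot_iff.2 fun x hx => C.base x trivial fun b hb => ?_
  obtain ⟨a, rfl⟩ : b ∈ MulAction.orbit G l.b := h2 ▸ h.1 b hb
  have h3 : (g * a⁻¹ * x * (g * a⁻¹)⁻¹) • g • l.b = g • l.b :=
    congrArg Subtype.val (hg ⟨_, hN.conj_mem x hx (g * a⁻¹)⟩)
  change x • a • l.b = a • l.b
  rw [← smul_left_cancel_iff (g * a⁻¹), smul_smul, smul_smul, smul_smul, inv_mul_cancel_right, ← h3, smul_smul]
  congr 1; group

/-- a certificate from a relation compatible with products -/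
theorem cert_of_rel' {γ : ℕ → G} {L : List ℕ} {k N : ℕ} {ns : List Net}
    {ts : List Tab} {ls : List Level} (r : G → ℕ → ℕ → Prop) (h1 : ∀ i < N, r 1 i i)
    (hmul : ∀ x y i j l, i < N → j < N → l < N → r y i j → r x j l → r (x * y) i l)
    (hinv : ∀ x i j, i < N → j < N → r x i j → r x⁻¹ j i)
    (huniq : ∀ i j, i < N → j < N → r 1 i j → i = j) (hv : validAll (2 ^ k) ns = true)
    (ht : TabsOK k (CGT.lp ns) ts) (h0 : ∀ j, ns.length ≤ j → γ j = 1)
    (h : (fixAbove k N ns && (Nat.ble N (2 ^ k) && allLt ns.length fun j => memL (Nat.mul 2 j) L)) = true)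
    (hact : ∀ j < ns.length, ∀ i < N, r (γ j) i (ap k (msk k) ts [2 * j] i))
    (hs : ∀ {H : Type u} [Group H] {φ : H →* Perm ℕ} {γ : ℕ → H}, Model φ γ k ns ts →
      ChainSound φ (gp γ L) k [] ls) {m : ℕ} (hb : Finite G ∧ Nat.card G ≤ m)
    (e : Nat.ble m (chainCard ls) = true) : ∃ φ, Cert φ γ k ns ts L ls := by
  simp only [Bool.and_eq_true, Nat.ble_eq, allLt_iff] at h
  have := hb.1
  have hL : ∀ j, γ j ∈ gp γ L := fun j => by
    by_cases hj : j < ns.length
    · simpa [ext_two_mul] using ext_mem_gp γ (memL_sound (h.2.2 j hj))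
    · rw [h0 j (by omega)]; exact one_mem _
  have hact' : ∀ j, ∀ i < N, r (γ j) i (netPerm ns j i) := fun j i hi => by
    by_cases hj : j < ns.length
    · have := hact j hj i hi
      rwa [msk_eq, ap_eq hv ht _ (hi.trans_le h.2.1), ev_singleton, CGT.lp, ext_two_mul] at this
    · rw [h0 j (by omega), netPerm_of_le ns (by omega)]; exact h1 i hi
  let γ' : ℕ → gp γ L := fun j => ⟨γ j, hL j⟩
  have hg : gp γ' L = ⊤ := by
    apply Subgroup.map_injective (gp γ L).subtype_injective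
    rw [← MonoidHom.range_eq_map, Subgroup.range_subtype]
    refine le_antisymm (Subgroup.map_subtype_le _) (gp_le fun a ha => ?_)
    exact ⟨CGT.ext γ' a, ext_mem_gp γ' ha, map_ext _ γ' a⟩
  obtain ⟨φ', h2, -⟩ := exists_hom_rel hg (fun g => r g.1) h1 (fun x y => hmul x.1 y.1)
    (fun x => hinv x.1) huniq (fixAbove_sound hv h.1) hact'
  have h3 := (hs (φ := φ') (γ := γ') ⟨hv, h2, ht⟩).le_card
  rw [St_nil, hg, Subgroup.card_top] at h3
  have h4 : gp γ L = ⊤ :=
    Subgroup.eq_top_of_le_card _ (hb.2.trans ((Nat.le_of_ble_eq_true e).trans h3))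
  obtain ⟨φ, h5, h6⟩ := exists_hom_rel h4 r h1 hmul hinv huniq (fixAbove_sound hv h.1) hact'
  exact ⟨φ, Cert.of_bound ⟨hv, h5, ht⟩ h4 (hs ⟨hv, h5, ht⟩) hb e⟩

/-- a certificate from an action on listed points -/
theorem cert_of_act {Ω : Type*} [MulAction G Ω] (X : ℕ → Ω) {gs : List G} {L : List ℕ} {k N : ℕ}
    {ns : List Net} {ts : List Tab} {ls : List Level} (hX : ∀ i < N, ∀ j < N, X i = X j → i = j)
    (hv : validAll (2 ^ k) ns = true) (ht : TabsOK k (CGT.lp ns) ts) (h0 : gs.length = ns.length)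
    (h : (fixAbove k N ns && (Nat.ble N (2 ^ k) && allLt ns.length fun j => memL (Nat.mul 2 j) L)) = true)
    (hact : ∀ j < ns.length, ∀ i < N, gs.getD j 1 • X i = X (ap k (msk k) ts [2 * j] i))
    (hs : ∀ {H : Type u} [Group H] {φ : H →* Perm ℕ} {γ : ℕ → H}, Model φ γ k ns ts →
      ChainSound φ (gp γ L) k [] ls) {m : ℕ} (hb : Finite G ∧ Nat.card G ≤ m)
    (e : Nat.ble m (chainCard ls) = true) : ∃ φ, Cert φ (fun j => gs.getD j 1) k ns ts L ls :=
  cert_of_rel' (fun g i j => g • X i = X j) (fun _ _ => one_smul _ _)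
    (fun x y i j l _ _ _ h1 h2 => by rw [mul_smul, h1, h2])
    (fun x i j _ _ h1 => by rw [← h1, inv_smul_smul])
    (fun i j hi hj h1 => hX i hi j hj (by rwa [one_smul] at h1)) hv ht
    (fun j hj => List.getD_eq_default _ _ (by omega)) h hact hs hb e

end Cfsg.Agent.Inv
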