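import Cfsg.Agent.Inv.Cent

set_option autoImplicit false
set_option Elab.async false
set_option maxRecDepth 100000
set_option linter.all false

namespace Cfsg.Agent.Inv
open Cfsg.Agent.CGT

open Cfsg.Agent.Inv

noncomputable def a5_n0 : Net := Net.cons 2 0x2 <|
  Net.cons 1 0x4 <|
  Net.cons 2 0x3 <|
  Net.nil
noncomputable def a5_n1 : Net := Net.cons 1 0x1 <|
  Net.cons 2 0x2 <|
  Net.nil
noncomputable def a5_n2 : Net := Net.cons 4 0x2 <|
  Net.cons 1 0x10 <|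
  Net.cons 4 0x3 <|
  Net.nil
noncomputable def a5_ns : List Net := [a5_n0, a5_n1, a5_n2]
noncomputable def a5_R : List (List ℕ) := []
noncomputable def a5_t0 : Tab := (.leaf 0xfac611)
noncomputable def a5_t1 : Tab := (.leaf 0xfac642)
noncomputable def a5_t2 : Tab := (.leaf 0xfac099)
noncomputable def a5_t3 : Tab := (.leaf 0xfac283)
noncomputable def a5_t4 : Tab := (.leaf 0xfa86a1)
noncomputable def a5_t5 : Tab := (.leaf 0xfa9684)
noncomputable def a5_ts : List Tab := [a5_t0, a5_t1, a5_t2, a5_t3, a5_t4, a5_t5]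
theorem a5_v : validAll (2 ^ 3) a5_ns = true := by decide +kernel
theorem a5_p : Holds (lp a5_ns) a5_R := holdsB_sound a5_v (by decide +kernel)
theorem a5_t0_b : Tab.beq (mkTab 3 0 a5_ns 0) a5_t0 = true := by decide +kernel
theorem a5_t1_b : Tab.beq (mkTab 3 0 a5_ns 1) a5_t1 = true := by decide +kernel
theorem a5_t2_b : Tab.beq (mkTab 3 0 a5_ns 2) a5_t2 = true := by decide +kernel
theorem a5_t3_b : Tab.beq (mkTab 3 0 a5_ns 3) a5_t3 = true := by decide +kernel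
theorem a5_t4_b : Tab.beq (mkTab 3 0 a5_ns 4) a5_t4 = true := by decide +kernel
theorem a5_t5_b : Tab.beq (mkTab 3 0 a5_ns 5) a5_t5 = true := by decide +kernel
theorem a5_ts_ok : TabsOK 3 (lp a5_ns) a5_ts :=
  TabsFrom.ok ⟨TabOK.of_beq a5_v a5_t0_b,
    TabOK.of_beq a5_v a5_t1_b,
    TabOK.of_beq a5_v a5_t2_b,
    TabOK.of_beq a5_v a5_t3_b,
    TabOK.of_beq a5_v a5_t4_b,
    TabOK.of_beq a5_v a5_t5_b,
    Nat.le_of_ble_eq_true (by decide +kernel)⟩
noncomputable def a5c_l0 : Level := ⟨0, [[0], [2], [4]], [0, 0, 1, 2], 0x1f, 5⟩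
noncomputable def a5c_l1 : Level := ⟨1, [[1, 2], [1, 4]], [0, 0, 1], 0x1e, 4⟩
noncomputable def a5c_l2 : Level := ⟨2, [[1, 2, 5, 0]], [0, 0], 0x1c, 3⟩
noncomputable def a5c_ls : List Level := [a5c_l0, a5c_l1, a5c_l2]
theorem a5c_l0_ok : (ptsOK 3 [] && (wordsIn [0, 2, 4] a5c_l0.S && a5c_l0.ok 3 a5_ns a5_ts [])) = true := by decide +kernel
theorem a5c_l1_ok : (ptsOK 3 [0] && (wordsIn [0, 2, 4] a5c_l1.S && a5c_l1.ok 3 a5_ns a5_ts [0])) = true := by decide +kernel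
theorem a5c_l2_ok : (ptsOK 3 [1, 0] && (wordsIn [0, 2, 4] a5c_l2.S && a5c_l2.ok 3 a5_ns a5_ts [1, 0])) = true := by decide +kernel
theorem a5c_sound {G : Type*} [Group G] {φ : G →* Equiv.Perm ℕ} {γ : ℕ → G}
    (M : Model φ γ 3 a5_ns a5_ts) : ChainSound φ (gp γ [0, 2, 4]) 3 [] a5c_ls :=
  ⟨Level.ok_sound' M a5c_l0_ok,
   Level.ok_sound' M a5c_l1_ok,
   Level.ok_sound' M a5c_l2_ok, trivial⟩
noncomputable def a5_gs : List (alternatingGroup (Fin 5)) := [⟨⟨![1, 2, 0, 3, 4], ![2, 0, 1, 3, 4], by decide, by decide⟩, Equiv.Perm.mem_alternatingGroup.2 (by decide +kernel)⟩,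
  ⟨⟨![1, 3, 2, 0, 4], ![3, 0, 2, 1, 4], by decide, by decide⟩, Equiv.Perm.mem_alternatingGroup.2 (by decide +kernel)⟩,
  ⟨⟨![1, 4, 2, 3, 0], ![4, 0, 2, 3, 1], by decide, by decide⟩, Equiv.Perm.mem_alternatingGroup.2 (by decide +kernel)⟩]
theorem a5_card : Nat.card (alternatingGroup (Fin 5)) = 60 := by
  have := two_mul_nat_card_alternatingGroup (α := Fin 5)
  rw [Nat.card_perm, Nat.card_fin] at this
  simp only [Nat.factorial] at this
  omega
theorem a5_cert : ∃ φ, Cert φ (fun j => a5_gs.getD j 1) 3 a5_ns a5_ts [0, 2, 4] a5c_ls :=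
  cert_of_act (Fin.ofNat 5) (N := 5) (by decide) a5_v a5_ts_ok rfl (by decide +kernel) (by decide +kernel) a5c_sound
    ⟨inferInstance, a5_card.le⟩ (by decide +kernel)

end Cfsg.Agent.Inv
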