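import Cfsg.Agent.Inv.A5PR
import Cfsg.Agent.Inv.A5

set_option autoImplicit false
set_option Elab.async false
set_option maxRecDepth 100000
set_option linter.all false

namespace Cfsg.Agent.Inv
open Cfsg.Agent.CGT

noncomputable def a5pl0_n0 : Net := Net.cons 1 0x4 <|
  Net.cons 2 0x2 <|
  Net.nil
noncomputable def a5pl0_n1 : Net := Net.cons 4 0x6 <|
  Net.cons 2 0x20 <|
  Net.cons 1 0x40 <|
  Net.cons 2 0x30 <|
  Net.cons 4 0x6 <|
  Net.nil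
noncomputable def a5pl0_n2 : Net := Net.cons 2 0x2 <|
  Net.cons 1 0x4 <|
  Net.cons 2 0x3 <|
  Net.nil
noncomputable def a5pl0_ns : List Net := [a5pl0_n0, a5pl0_n1, a5pl0_n2]
noncomputable def a5pl0_R : List (List ℕ) := [[0, 0, 0], [2, 2, 2], [2, 0, 2, 0], [4, 4, 4], [4, 0, 4, 0], [4, 2, 4, 2]]
noncomputable def a5pl0_S0 : List (List ℕ) := [[0], [2]]
noncomputable def a5pl0_E : Enum := ⟨a5pl0_ns, a5pl0_R, a5pl0_S0, [], 0⟩
theorem a5pl0_v : validAll (2 ^ 3) a5pl0_ns = true := by decide +kernel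
theorem a5pl0_p0 : holdsB 3 a5pl0_ns a5pl0_R = true := by decide +kernel
theorem a5pl0_p : Holds (lp a5pl0_ns) a5pl0_R := holdsB_sound a5pl0_v a5pl0_p0
theorem a5pl0_f : allL a5pl0_E.Sub (fixN a5pl0_E.ns a5pl0_E.b0) = true := by decide +kernel
theorem a5pl0_r0 : a5pl0_E.run [18, 17, 22, 21, 2, 1, 10, 9, 12, 17, 3, 1, 7, 9, 4112, 1, 4116, 9, 0, 1, 4, 9, 8, 9, 4104, 1, 16, 17, 20, 17] (1 <<< 0) (List.replicate 7 0) (Enum.done 5 [0, 2, 4]) = true := by decide +kernel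
theorem a5pl0_fin {G : Type*} [Group G] {γ : ℕ → G} (hR : Holds (ext γ) a5pl0_R) {H : Subgroup G}
    (hS : ∀ u ∈ a5pl0_S0, ev (ext γ) u ∈ H) : a5pl0_E.Fin γ H 5 [0, 2, 4] :=
  have hy : a5pl0_E.Hyp γ H := Enum.hyp_of a5pl0_v hR a5pl0_p hS a5pl0_f
  (Enum.fin_of_done hy (Enum.inv_init 7) a5pl0_r0)
noncomputable def a5pl1_n0 : Net := Net.cons 1 0x4 <|
  Net.cons 2 0x2 <|
  Net.nil
noncomputable def a5pl1_n1 : Net := Net.cons 2 0x2 <|
  Net.cons 1 0x4 <|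
  Net.cons 2 0x3 <|
  Net.nil
noncomputable def a5pl1_ns : List Net := [a5pl1_n0, a5pl1_n1, Net.nil]
noncomputable def a5pl1_R : List (List ℕ) := [[0, 0, 0], [2, 2, 2], [2, 0, 2, 0]]
noncomputable def a5pl1_S0 : List (List ℕ) := [[0]]
noncomputable def a5pl1_E : Enum := ⟨a5pl1_ns, a5pl1_R, a5pl1_S0, [], 0⟩
theorem a5pl1_v : validAll (2 ^ 3) a5pl1_ns = true := by decide +kernel
theorem a5pl1_p0 : holdsB 3 a5pl1_ns a5pl1_R = true := by decide +kernel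
theorem a5pl1_p : Holds (lp a5pl1_ns) a5pl1_R := holdsB_sound a5pl1_v a5pl1_p0
theorem a5pl1_f : allL a5pl1_E.Sub (fixN a5pl1_E.ns a5pl1_E.b0) = true := by decide +kernel
theorem a5pl1_r0 : a5pl1_E.run [10, 9, 14, 13, 2, 1, 4, 9, 3, 1, 4104, 1, 0, 1, 8, 9] (1 <<< 0) (List.replicate 5 0) (Enum.done 4 [0, 2]) = true := by decide +kernel
theorem a5pl1_fin {G : Type*} [Group G] {γ : ℕ → G} (hR : Holds (ext γ) a5pl1_R) {H : Subgroup G}
    (hS : ∀ u ∈ a5pl1_S0, ev (ext γ) u ∈ H) : a5pl1_E.Fin γ H 4 [0, 2] :=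
  have hy : a5pl1_E.Hyp γ H := Enum.hyp_of a5pl1_v hR a5pl1_p hS a5pl1_f
  (Enum.fin_of_done hy (Enum.inv_init 5) a5pl1_r0)
noncomputable def a5pl2_n0 : Net := Net.cons 2 0x2 <|
  Net.cons 1 0x4 <|
  Net.cons 2 0x3 <|
  Net.nil
noncomputable def a5pl2_ns : List Net := [a5pl2_n0, Net.nil, Net.nil]
noncomputable def a5pl2_R : List (List ℕ) := [[0, 0, 0]]
noncomputable def a5pl2_S0 : List (List ℕ) := []
noncomputable def a5pl2_E : Enum := ⟨a5pl2_ns, a5pl2_R, a5pl2_S0, [], 0⟩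
theorem a5pl2_v : validAll (2 ^ 3) a5pl2_ns = true := by decide +kernel
theorem a5pl2_p0 : holdsB 3 a5pl2_ns a5pl2_R = true := by decide +kernel
theorem a5pl2_p : Holds (lp a5pl2_ns) a5pl2_R := holdsB_sound a5pl2_v a5pl2_p0
theorem a5pl2_f : allL a5pl2_E.Sub (fixN a5pl2_E.ns a5pl2_E.b0) = true := by decide +kernel
theorem a5pl2_r0 : a5pl2_E.run [2, 1, 6, 5, 0, 1] (1 <<< 0) (List.replicate 3 0) (Enum.done 3 [0]) = true := by decide +kernel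
theorem a5pl2_fin {G : Type*} [Group G] {γ : ℕ → G} (hR : Holds (ext γ) a5pl2_R) {H : Subgroup G}
    (hS : ∀ u ∈ a5pl2_S0, ev (ext γ) u ∈ H) : a5pl2_E.Fin γ H 3 [0] :=
  have hy : a5pl2_E.Hyp γ H := Enum.hyp_of a5pl2_v hR a5pl2_p hS a5pl2_f
  (Enum.fin_of_done hy (Enum.inv_init 3) a5pl2_r0)
theorem a5pbd2 {G : Type*} [Group G] {γ : ℕ → G} (hR : Holds (ext γ) a5pRR) : Bd (gp γ [0]) 3 :=
  Bd.step (a5pl2_fin (hR.subR (by decide +kernel)) (wordsIn_sound γ (L := []) (by decide +kernel))) (Bd.gp_nil γ) (by norm_num)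
theorem a5pbd1 {G : Type*} [Group G] {γ : ℕ → G} (hR : Holds (ext γ) a5pRR) : Bd (gp γ [0, 2]) 12 :=
  Bd.step (a5pl1_fin (hR.subR (by decide +kernel)) (wordsIn_sound γ (L := [0]) (by decide +kernel))) (a5pbd2 hR) (by norm_num)
theorem a5pbd0 {G : Type*} [Group G] {γ : ℕ → G} (hR : Holds (ext γ) a5pRR) : Bd (gp γ [0, 2, 4]) 60 :=
  Bd.step (a5pl0_fin (hR.subR (by decide +kernel)) (wordsIn_sound γ (L := [0, 2]) (by decide +kernel))) (a5pbd1 hR) (by norm_num)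

end Cfsg.Agent.Inv
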