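import Cfsg.Agent.Inv.Cent

set_option autoImplicit false
set_option Elab.async false
set_option maxRecDepth 100000
set_option linter.all false

namespace Cfsg.Agent.Inv
open Cfsg.Agent.CGT

open Cfsg.Agent.Inv

noncomputable def a8_n0 : Net := Net.cons 2 0x2 <|
  Net.cons 1 0x4 <|
  Net.cons 2 0x3 <|
  Net.nil
noncomputable def a8_n1 : Net := Net.cons 1 0x1 <|
  Net.cons 2 0x2 <|
  Net.nil
noncomputable def a8_n2 : Net := Net.cons 4 0x2 <|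
  Net.cons 1 0x10 <|
  Net.cons 4 0x3 <|
  Net.nil
noncomputable def a8_n3 : Net := Net.cons 1 0x1 <|
  Net.cons 4 0x2 <|
  Net.nil
noncomputable def a8_n4 : Net := Net.cons 4 0x4 <|
  Net.cons 2 0x2 <|
  Net.cons 1 0x4 <|
  Net.cons 2 0x3 <|
  Net.cons 4 0x4 <|
  Net.nil
noncomputable def a8_n5 : Net := Net.cons 4 0x8 <|
  Net.cons 1 0x1 <|
  Net.cons 2 0x2 <|
  Net.cons 4 0x8 <|
  Net.nil
noncomputable def a8_ns : List Net := [a8_n0, a8_n1, a8_n2, a8_n3, a8_n4, a8_n5]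
noncomputable def a8_R : List (List ℕ) := []
noncomputable def a8_t0 : Tab := (.leaf 0xfac611)
noncomputable def a8_t1 : Tab := (.leaf 0xfac642)
noncomputable def a8_t2 : Tab := (.leaf 0xfac099)
noncomputable def a8_t3 : Tab := (.leaf 0xfac283)
noncomputable def a8_t4 : Tab := (.leaf 0xfa86a1)
noncomputable def a8_t5 : Tab := (.leaf 0xfa9684)
noncomputable def a8_t6 : Tab := (.leaf 0xf846a9)
noncomputable def a8_t7 : Tab := (.leaf 0xf8c685)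
noncomputable def a8_t8 : Tab := (.leaf 0xe2c6b1)
noncomputable def a8_t9 : Tab := (.leaf 0xe6c686)
noncomputable def a8_t10 : Tab := (.leaf 0x1ac6b9)
noncomputable def a8_t11 : Tab := (.leaf 0x3ac687)
noncomputable def a8_ts : List Tab := [a8_t0, a8_t1, a8_t2, a8_t3, a8_t4, a8_t5, a8_t6, a8_t7, a8_t8, a8_t9, a8_t10, a8_t11]
theorem a8_v : validAll (2 ^ 3) a8_ns = true := by decide +kernel
theorem a8_p : Holds (lp a8_ns) a8_R := holdsB_sound a8_v (by decide +kernel)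
theorem a8_t0_b : Tab.beq (mkTab 3 0 a8_ns 0) a8_t0 = true := by decide +kernel
theorem a8_t1_b : Tab.beq (mkTab 3 0 a8_ns 1) a8_t1 = true := by decide +kernel
theorem a8_t2_b : Tab.beq (mkTab 3 0 a8_ns 2) a8_t2 = true := by decide +kernel
theorem a8_t3_b : Tab.beq (mkTab 3 0 a8_ns 3) a8_t3 = true := by decide +kernel
theorem a8_t4_b : Tab.beq (mkTab 3 0 a8_ns 4) a8_t4 = true := by decide +kernel
theorem a8_t5_b : Tab.beq (mkTab 3 0 a8_ns 5) a8_t5 = true := by decide +kernel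
theorem a8_t6_b : Tab.beq (mkTab 3 0 a8_ns 6) a8_t6 = true := by decide +kernel
theorem a8_t7_b : Tab.beq (mkTab 3 0 a8_ns 7) a8_t7 = true := by decide +kernel
theorem a8_t8_b : Tab.beq (mkTab 3 0 a8_ns 8) a8_t8 = true := by decide +kernel
theorem a8_t9_b : Tab.beq (mkTab 3 0 a8_ns 9) a8_t9 = true := by decide +kernel
theorem a8_t10_b : Tab.beq (mkTab 3 0 a8_ns 10) a8_t10 = true := by decide +kernel
theorem a8_t11_b : Tab.beq (mkTab 3 0 a8_ns 11) a8_t11 = true := by decide +kernel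
theorem a8_ts_ok : TabsOK 3 (lp a8_ns) a8_ts :=
  TabsFrom.ok ⟨TabOK.of_beq a8_v a8_t0_b,
    TabOK.of_beq a8_v a8_t1_b,
    TabOK.of_beq a8_v a8_t2_b,
    TabOK.of_beq a8_v a8_t3_b,
    TabOK.of_beq a8_v a8_t4_b,
    TabOK.of_beq a8_v a8_t5_b,
    TabOK.of_beq a8_v a8_t6_b,
    TabOK.of_beq a8_v a8_t7_b,
    TabOK.of_beq a8_v a8_t8_b,
    TabOK.of_beq a8_v a8_t9_b,
    TabOK.of_beq a8_v a8_t10_b,
    TabOK.of_beq a8_v a8_t11_b,
    Nat.le_of_ble_eq_true (by decide +kernel)⟩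
noncomputable def a8c_l0 : Level := ⟨0, [[0], [2], [4], [6], [8], [10]], [0, 0, 1, 2, 3, 4, 5], 0xff, 8⟩
noncomputable def a8c_l1 : Level := ⟨1, [[1, 2], [1, 4], [1, 6], [1, 8], [1, 10]], [0, 0, 1, 2, 3, 4], 0xfe, 7⟩
noncomputable def a8c_l2 : Level := ⟨2, [[1, 2, 5, 0], [1, 2, 7, 0], [1, 2, 9, 0], [1, 2, 11, 0]], [0, 0, 1, 2, 3], 0xfc, 6⟩
noncomputable def a8c_l3 : Level := ⟨3, [[1, 2, 5, 6, 3, 0], [1, 2, 5, 8, 3, 0], [1, 2, 5, 10, 3, 0]], [0, 0, 1, 2], 0xf8, 5⟩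
noncomputable def a8c_l4 : Level := ⟨4, [[1, 2, 5, 6, 9, 4, 3, 0], [1, 2, 5, 6, 11, 4, 3, 0]], [0, 0, 1], 0xf0, 4⟩
noncomputable def a8c_l5 : Level := ⟨5, [[1, 2, 5, 6, 9, 10, 7, 4, 3, 0]], [0, 0], 0xe0, 3⟩
noncomputable def a8c_ls : List Level := [a8c_l0, a8c_l1, a8c_l2, a8c_l3, a8c_l4, a8c_l5]
theorem a8c_l0_ok : (ptsOK 3 [] && (wordsIn [0, 2, 4, 6, 8, 10] a8c_l0.S && a8c_l0.ok 3 a8_ns a8_ts [])) = true := by decide +kernel
theorem a8c_l1_ok : (ptsOK 3 [0] && (wordsIn [0, 2, 4, 6, 8, 10] a8c_l1.S && a8c_l1.ok 3 a8_ns a8_ts [0])) = true := by decide +kernel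
theorem a8c_l2_ok : (ptsOK 3 [1, 0] && (wordsIn [0, 2, 4, 6, 8, 10] a8c_l2.S && a8c_l2.ok 3 a8_ns a8_ts [1, 0])) = true := by decide +kernel
theorem a8c_l3_ok : (ptsOK 3 [2, 1, 0] && (wordsIn [0, 2, 4, 6, 8, 10] a8c_l3.S && a8c_l3.ok 3 a8_ns a8_ts [2, 1, 0])) = true := by decide +kernel
theorem a8c_l4_ok : (ptsOK 3 [3, 2, 1, 0] && (wordsIn [0, 2, 4, 6, 8, 10] a8c_l4.S && a8c_l4.ok 3 a8_ns a8_ts [3, 2, 1, 0])) = true := by decide +kernel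
theorem a8c_l5_ok : (ptsOK 3 [4, 3, 2, 1, 0] && (wordsIn [0, 2, 4, 6, 8, 10] a8c_l5.S && a8c_l5.ok 3 a8_ns a8_ts [4, 3, 2, 1, 0])) = true := by decide +kernel
theorem a8c_sound {G : Type*} [Group G] {φ : G →* Equiv.Perm ℕ} {γ : ℕ → G}
    (M : Model φ γ 3 a8_ns a8_ts) : ChainSound φ (gp γ [0, 2, 4, 6, 8, 10]) 3 [] a8c_ls :=
  ⟨Level.ok_sound' M a8c_l0_ok,
   Level.ok_sound' M a8c_l1_ok,
   Level.ok_sound' M a8c_l2_ok,
   Level.ok_sound' M a8c_l3_ok,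
   Level.ok_sound' M a8c_l4_ok,
   Level.ok_sound' M a8c_l5_ok, trivial⟩
noncomputable def a8_gs : List (alternatingGroup (Fin 8)) := [⟨⟨![1, 2, 0, 3, 4, 5, 6, 7], ![2, 0, 1, 3, 4, 5, 6, 7], by decide, by decide⟩, Equiv.Perm.mem_alternatingGroup.2 (by decide +kernel)⟩,
  ⟨⟨![1, 3, 2, 0, 4, 5, 6, 7], ![3, 0, 2, 1, 4, 5, 6, 7], by decide, by decide⟩, Equiv.Perm.mem_alternatingGroup.2 (by decide +kernel)⟩,
  ⟨⟨![1, 4, 2, 3, 0, 5, 6, 7], ![4, 0, 2, 3, 1, 5, 6, 7], by decide, by decide⟩, Equiv.Perm.mem_alternatingGroup.2 (by decide +kernel)⟩,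
  ⟨⟨![1, 5, 2, 3, 4, 0, 6, 7], ![5, 0, 2, 3, 4, 1, 6, 7], by decide, by decide⟩, Equiv.Perm.mem_alternatingGroup.2 (by decide +kernel)⟩,
  ⟨⟨![1, 6, 2, 3, 4, 5, 0, 7], ![6, 0, 2, 3, 4, 5, 1, 7], by decide, by decide⟩, Equiv.Perm.mem_alternatingGroup.2 (by decide +kernel)⟩,
  ⟨⟨![1, 7, 2, 3, 4, 5, 6, 0], ![7, 0, 2, 3, 4, 5, 6, 1], by decide, by decide⟩, Equiv.Perm.mem_alternatingGroup.2 (by decide +kernel)⟩]
theorem a8_card : Nat.card (alternatingGroup (Fin 8)) = 20160 := by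
  have := two_mul_nat_card_alternatingGroup (α := Fin 8)
  rw [Nat.card_perm, Nat.card_fin] at this
  simp only [Nat.factorial] at this
  omega
theorem a8_cert : ∃ φ, Cert φ (fun j => a8_gs.getD j 1) 3 a8_ns a8_ts [0, 2, 4, 6, 8, 10] a8c_ls :=
  cert_of_act (Fin.ofNat 8) (N := 8) (by decide) a8_v a8_ts_ok rfl (by decide +kernel) (by decide +kernel) a8c_sound
    ⟨inferInstance, a8_card.le⟩ (by decide +kernel)

end Cfsg.Agent.Inv
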