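import Cfsg.Agent.Inv.Cent
import Cfsg.Prelude.Def_SporadicB
/-!
# The structure of centralisers: double covers, extraspecial subgroups, complements
-/
set_option autoImplicit false

namespace Cfsg.Agent.Inv
open Cfsg Cfsg.Agent.CGT Equiv Subgroup
open scoped commutatorElement

universe u v
variable {G : Type u} [Group G] {K : Type v} [Group K]

theorem t_center {γ : ℕ → G} {m j : ℕ} (hj : j < m) {δ : ℕ → centralizer {ev (ext γ) [2 * j]}}
    (hδ : ∀ j, (δ j : G) = tk γ m j) : ev (ext δ) [2 * j] ∈ center _ ∧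
      orderOf (ev (ext δ) [2 * j]) = orderOf (ev (ext γ) [2 * j]) := by
  have h : ((ev (ext δ) [2 * j] : centralizer {ev (ext γ) [2 * j]}) : G) = ev (ext γ) [2 * j] := by
    rw [ev_singleton (ext δ), ext_two_mul, hδ, tk, if_pos hj, ev_singleton, ext_two_mul]
  refine ⟨mem_center_iff.2 fun g => Subtype.ext ?_, by rw [← orderOf_coe, h]⟩
  rw [Subgroup.coe_mul, Subgroup.coe_mul, h]
  exact mem_centralizer_singleton_iff.1 g.2

theorem nonsplit [Finite G] {f : G →* K} (hf : Function.Surjective f) (hK : center K = ⊥)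
    (hc : Nat.card G = 2 * Nat.card K) {x z : G} (hz : z ∈ center G) (h2 : orderOf z = 2)
    (hx : x * x = z) : IsNonsplitDoubleCover G K := by
  have := Finite.of_surjective f hf
  have h1 : Nat.card f.ker = 2 := Nat.eq_of_mul_eq_mul_right Nat.card_pos ((card_ker_mul hf).trans hc)
  have h3 : center G = f.ker := eq_of_le_of_card_ge (fun g hg => by
    rw [MonoidHom.mem_ker, ← mem_bot, ← hK, mem_center_iff]
    intro y
    obtain ⟨y, rfl⟩ := hf y
    rw [← map_mul, ← map_mul, mem_center_iff.1 hg]) (by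
      rw [h1, ← h2, ← Nat.card_zpowers]; exact card_le_of_le (zpowers_le.2 hz))
  refine ⟨h3 ▸ h1, ⟨(QuotientGroup.quotientMulEquivOfEq h3).trans
    (QuotientGroup.quotientKerEquivOfSurjective f hf)⟩, fun L hL => ?_⟩
  have h4 := mul_self_mem_of_index_two (hL.index_eq_card.trans (h3 ▸ h1)) x
  rw [hx] at h4
  rw [disjoint_def.1 hL.disjoint hz h4] at h2
  simp at h2

variable {φ : G →* Perm ℕ} {γ : ℕ → G} {k : ℕ} {ns : List Net} {ts : List Tab} {B : List ℕ}

theorem eqB_complete (M : Model φ γ k ns ts) (hp : ptsOK k B = true) {u v : List ℕ}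
    (h : ev (ext γ) u = ev (ext γ) v) : eqB k ts B u v = true :=
  allL_iff.2 fun b hb => by rw [M.ap' u (ptsOK_lt hp hb), M.ap' v (ptsOK_lt hp hb), h]; simp

theorem eqB_iff (M : Model φ γ k ns ts) (hB : IsBase φ ⊤ B) (hp : ptsOK k B = true) (u v : List ℕ) :
    eqB k ts B u v = true ↔ ev (ext γ) u = ev (ext γ) v :=
  ⟨eqB_sound M hB hp trivial trivial, eqB_complete M hp⟩

theorem map_ev_of {f : G →* K} {y : ℕ → K} (hf : ∀ j, f (γ j) = y j) (u : List ℕ) :
    f (ev (ext γ) u) = ev (ext y) u := by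
  rw [map_ev]; congr 1; funext a; rw [map_ext]; simp only [hf]

/-- the kernel is generated by the given words -/
theorem ker_eq_gp [Finite G] {f : G →* K} (hs : Function.Surjective f) {y : ℕ → K}
    (hf : ∀ j, f (γ j) = y j) {W : List (List ℕ)} (hW : Holds (ext y) W) {L : List ℕ} {ls : List Level}
    (hc : ChainSound φ (gp (wg γ W) L) k [] ls) {N n : ℕ} (hK : Nat.card K = N)
    (hG : Nat.card G = n * N) (e : chainCard ls = n) :
    f.ker = gp (wg γ W) L ∧ Nat.card (gp (wg γ W) L) = n := by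
  have := Finite.of_surjective f hs
  have h1 : Nat.card f.ker = n :=
    Nat.eq_of_mul_eq_mul_right Nat.card_pos ((card_ker_mul hs).trans (hK ▸ hG))
  have h2 := hc.le_card
  rw [St_nil, e, ← h1] at h2
  have h3 := eq_of_le_of_card_ge (gp_le (L := L) fun a _ => ext_wg_mem (K := f.ker)
    (fun u hu => (map_ev_of hf u).trans (hW u hu)) a) h2
  exact ⟨h3.symm, h3 ▸ h1⟩

/-- commutators of the letters are powers of `z`, and no other listed element is central -/
noncomputable def extraB (k : ℕ) (ts : List Tab) (B L z : List ℕ) (E : List (List ℕ)) : Bool :=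
  ptsOK k B && (wordIn L z && ((allL L fun a => allL L fun b =>
    eqB k ts B [a, b] [b, a] || eqB k ts B [a, b] (app [b, a] z)) &&
      allL E fun e => !(allL L fun a => eqB k ts B (a :: e) (app e [a])) || (eqB k ts B e [] || eqB k ts B e z)))

theorem extra_of_list [Finite G] (M : Model φ γ k ns ts) (hB : IsBase φ ⊤ B) {L z : List ℕ}
    {E : List (List ℕ)} (hE : ∀ x ∈ gp γ L, ∃ e ∈ E, ev (ext γ) e = x)
    (hz : ev (ext γ) z ∈ center G) (h2 : orderOf (ev (ext γ) z) = 2) {n : ℕ}
    (hc : Nat.card (gp γ L) = 2 ^ (n + 2)) (h : extraB k ts B L z E = true) :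
    IsExtraspecial 2 (gp γ L) := by
  rw [extraB, Bool.and_eq_true] at h
  obtain ⟨hp, h⟩ := h
  simp only [Bool.and_eq_true, allL_iff, Bool.or_eq_true, Bool.not_eq_true', ← Bool.not_eq_true,
    eqB_iff M hB hp, ev_cons, ev_app, ev_nil, mul_one] at h
  obtain ⟨h1, h3, h4⟩ := h
  have : (zpowers (ev (ext γ) z)).Normal := ⟨fun x hx g => by
    rwa [mem_center_iff.1 (zpowers_le.2 hz hx) g, mul_inv_cancel_right]⟩
  have h5 : ∀ x : gp γ L, (x : G) ∈ zpowers (ev (ext γ) z) →
      x ∈ zpowers (⟨_, wordIn_sound γ h1⟩ : gp γ L) := fun x ⟨i, hi⟩ => ⟨i, Subtype.ext hi⟩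
  refine isExtraspecial_two (IsPGroup.of_card hc) (z := ⟨_, wordIn_sound γ h1⟩)
    (by rw [← orderOf_coe]; exact h2) (le_antisymm (fun x hx => h5 x ?_) (zpowers_le.2
      (mem_center_iff.2 fun g => Subtype.ext (mem_center_iff.1 hz g)))) ?_ ?_
  · obtain ⟨e, he, e1⟩ := hE x x.2
    rcases h4 e he with h6 | h6 | h6
    · exact absurd (fun a ha => e1 ▸ congrArg Subtype.val (mem_center_iff.1 hx ⟨_, ext_mem_gp γ ha⟩)) h6
    · rw [← e1, h6]; exact one_mem _
    · rw [← e1, h6]; exact mem_zpowers _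
  · refine commutator_le.2 fun x _ y _ => h5 _ ?_
    let π := QuotientGroup.mk' (zpowers (ev (ext γ) z))
    have h6 : ∀ a ∈ L, ∀ x ∈ gp γ L, x ∈ (centralizer {π (ext γ a)}).comap π := fun a ha =>
      gp_le fun b hb => by
        rw [mem_comap, mem_centralizer_singleton_iff, ← map_mul, ← map_mul]
        rcases h3 b hb a ha with h7 | h7
        · rw [h7]
        · rw [h7, map_mul _ _ (ev _ z), show π (ev (ext γ) z) = 1 from
            (QuotientGroup.eq_one_iff _).2 (mem_zpowers _), mul_one]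
    have h7 : y.1 ∈ (centralizer {π x}).comap π := gp_le (H := (centralizer {π x}).comap π) (fun a ha =>
      mem_centralizer_singleton_iff.2 (mem_centralizer_singleton_iff.1 (h6 a ha x x.2)).symm) y.2
    rw [← QuotientGroup.eq_one_iff]
    exact (map_commutatorElement π x.1 y.1).trans
      (commutatorElement_eq_one_iff_mul_comm.2 (mem_centralizer_singleton_iff.1 h7).symm)
  · rw [hc, pow_add]
    have := Nat.one_le_two_pow (n := n)
    omega

/-- commuting involutions generate at most a four-group with `z` -/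
noncomputable def rankB (k : ℕ) (ts : List Tab) (B z : List ℕ) (E : List (List ℕ)) : Bool :=
  ptsOK k B && allL E fun e => !(eqB k ts B (app e e) []) || (eqB k ts B e [] || (eqB k ts B e z ||
    allL E fun e' => !(eqB k ts B (app e e') (app e' e)) || (!(eqB k ts B (app e' e') []) ||
      (eqB k ts B e' [] || (eqB k ts B e' z || (eqB k ts B e' e || eqB k ts B e' (app e z)))))))

theorem rank_of_list (M : Model φ γ k ns ts) (hB : IsBase φ ⊤ B) {Q : Subgroup G} {z : List ℕ}
    {E : List (List ℕ)} (hE : ∀ x ∈ Q, ∃ e ∈ E, ev (ext γ) e = x) (h : rankB k ts B z E = true)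
    (A : Subgroup Q) (hA : IsElementaryAbelian 2 A) : Nat.card A ≤ 2 ^ 2 := by
  classical
  rw [rankB, Bool.and_eq_true] at h
  obtain ⟨hp, h⟩ := h
  simp only [allL_iff, Bool.or_eq_true, Bool.not_eq_true', ← Bool.not_eq_true,
    eqB_iff M hB hp, ev_app, ev_nil] at h
  have h1 : ∀ x ∈ A, (x : G) * x = 1 := fun x hx => by
    have := congrArg Subtype.val (hA.2 x hx); rwa [sq] at this
  obtain ⟨x, hx⟩ : ∃ x : G, ∀ y ∈ A, (y : G) ∈ ({1, ev (ext γ) z, x, x * ev (ext γ) z} : Finset G) := by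
    by_cases h2 : ∀ y ∈ A, (y : G) = 1 ∨ y = ev (ext γ) z
    · exact ⟨1, fun y hy => by rcases h2 y hy with h3 | h3 <;> simp [h3]⟩
    · push Not at h2
      obtain ⟨x, hx, h2, h3⟩ := h2
      refine ⟨x, fun y hy => ?_⟩
      obtain ⟨e, he, e1⟩ := hE x x.2
      obtain ⟨e', he', e2⟩ := hE y y.2
      have h4 := (((h e he).resolve_left (by simp [e1, h1 x hx])).resolve_left (e1 ▸ h2)).resolve_left
        (e1 ▸ h3) e' he'
      have h5 : (x : G) * y = y * x :=
        congrArg (fun a : A => ((a : Q) : G)) (hA.1.is_comm.comm ⟨x, hx⟩ ⟨y, hy⟩)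
      simpa [e1, e2, h5, h1 y hy] using h4
  refine le_trans ?_ (Finset.card_le_four (a := 1) (b := ev (ext γ) z) (c := x) (d := x * ev (ext γ) z))
  rw [← Nat.card_eq_finsetCard]
  exact Nat.card_le_card_of_injective (fun a => ⟨a.1.1, hx a.1 a.2⟩) fun a b e =>
    Subtype.ext (Subtype.ext (Subtype.mk.inj e))

/-- a complement to the kernel -/
theorem compl_of_list [Finite G] {f : G →* K} {ψ : K →* Perm ℕ} {y : ℕ → K} {k' : ℕ} {ns' : List Net}
    {ts' : List Tab} {L' : List ℕ} {ls' : List Level} (C' : Cert ψ y k' ns' ts' L' ls')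
    {W U : List (List ℕ)} (hf : ∀ j, f (γ j) = wg y W j)
    (h : genB k' ts' (chainBase [] ls') W L' U = true) {L : List ℕ}
    (hL : (allLt L'.length fun j => memL (Nat.mul 2 j) L) = true)
    (hc : Nat.card (gp (wg γ U) L) ≤ chainCard ls') : f.ker.IsComplement' (gp (wg γ U) L) := by
  rw [genB, Bool.and_eq_true] at h
  have h1 : Function.Surjective (f.comp (gp (wg γ U) L).subtype) := by
    refine MonoidHom.range_eq_top.1 (eq_top_iff.2 ?_)
    rw [← C'.gen]
    refine gp_le fun a ha => ?_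
    obtain ⟨i, hi, rfl⟩ := List.getElem_of_mem ha
    have h9 := eqB_sound C'.M C'.base h.1 trivial trivial (allLt_iff.1 h.2 i hi)
    rw [ev_expand_dbl, ev_singleton, nth_eq 0, List.getD_eq_getElem _ _ hi, ← map_ev_of hf] at h9
    have h8 := ext_mem_gp (wg γ U) (memL_sound (allLt_iff.1 hL i hi))
    rw [show Nat.mul 2 i = 2 * i from rfl, ext_two_mul] at h8
    exact ⟨⟨_, h8⟩, h9⟩
  have h2 := le_antisymm (hc.trans C'.card.ge) (Nat.card_le_card_of_surjective _ h1)
  have h3 := ((Nat.bijective_iff_surjective_and_card _).2 ⟨h1, h2⟩).1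
  refine isComplement'_of_card_mul_and_disjoint (by rw [h2, card_ker_mul (f := f) (Function.Surjective.of_comp (g := (gp (wg γ U) L).subtype) h1)])
    (disjoint_def.2 fun {x} hx hx' => ?_)
  exact congrArg Subtype.val ((injective_iff_map_eq_one _).1 h3 ⟨x, hx'⟩ hx)

end Cfsg.Agent.Inv
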