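import Cfsg.Agent.GLn.Card
import Cfsg.Agent.Inv.Cent

set_option autoImplicit false
set_option Elab.async false
set_option maxRecDepth 100000
set_option linter.all false

namespace Cfsg.Agent.Inv
open Cfsg.Agent.CGT

open Cfsg.Agent.Inv

noncomputable def l_n0 : Net := Net.cons 1 0x44444444 <|
  Net.nil
noncomputable def l_n1 : Net := Net.cons 2 0x30303030 <|
  Net.nil
noncomputable def l_n2 : Net := Net.cons 4 0xf000f00 <|
  Net.nil
noncomputable def l_n3 : Net := Net.cons 8 0xff0000 <|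
  Net.nil
noncomputable def l_n4 : Net := Net.cons 16 0xaaaa <|
  Net.nil
noncomputable def l_ns : List Net := [l_n0, l_n1, l_n2, l_n3, l_n4]
noncomputable def l_R : List (List ℕ) := [[0, 0], [2, 2], [4, 4], [6, 6], [8, 8]]
noncomputable def l_t0 : Tab := (.leaf 0xf7fbcd6f38b5eb494e3073dac52d2831ca410c20)
noncomputable def l_t2 : Tab := (.leaf 0xef3fedeb38ad2f69ca306b1ee5a928290e618820)
noncomputable def l_t4 : Tab := (.leaf 0xdeb38ffbbcbdab49ca305a9287b9ac398a418820)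
noncomputable def l_t6 : Tab := (.leaf 0xbdab49ca30ffbbcdeb387b9ac5a928398a418820)
noncomputable def l_t8 : Tab := (.leaf 0x7f9bc5e9383d8b41c830fbbacdab28b9aa498a20)
noncomputable def l_ts : List Tab := [l_t0, l_t0, l_t2, l_t2, l_t4, l_t4, l_t6, l_t6, l_t8, l_t8]
theorem l_v : validAll (2 ^ 5) l_ns = true := by decide +kernel
theorem l_p : Holds (lp l_ns) l_R := holdsB_sound l_v (by decide +kernel)
theorem l_t0_b : Tab.beq (mkTab 5 0 l_ns 0) l_t0 = true := by decide +kernel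
theorem l_t2_b : Tab.beq (mkTab 5 0 l_ns 2) l_t2 = true := by decide +kernel
theorem l_t4_b : Tab.beq (mkTab 5 0 l_ns 4) l_t4 = true := by decide +kernel
theorem l_t6_b : Tab.beq (mkTab 5 0 l_ns 6) l_t6 = true := by decide +kernel
theorem l_t8_b : Tab.beq (mkTab 5 0 l_ns 8) l_t8 = true := by decide +kernel
theorem l_ts_ok : TabsOK 5 (lp l_ns) l_ts :=
  TabsFrom.ok ⟨TabOK.of_beq l_v l_t0_b,
    TabOK.next (j := 0) (TabOK.of_beq l_v l_t0_b) l_p (by decide +kernel),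
    TabOK.of_beq l_v l_t2_b,
    TabOK.next (j := 1) (TabOK.of_beq l_v l_t2_b) l_p (by decide +kernel),
    TabOK.of_beq l_v l_t4_b,
    TabOK.next (j := 2) (TabOK.of_beq l_v l_t4_b) l_p (by decide +kernel),
    TabOK.of_beq l_v l_t6_b,
    TabOK.next (j := 3) (TabOK.of_beq l_v l_t6_b) l_p (by decide +kernel),
    TabOK.of_beq l_v l_t8_b,
    TabOK.next (j := 4) (TabOK.of_beq l_v l_t8_b) l_p (by decide +kernel),
    Nat.le_of_ble_eq_true (by decide +kernel)⟩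
noncomputable def lc_l0 : Level := ⟨1, [[0], [2], [4], [6], [8]], [4, 3, 2, 4, 1, 0, 2, 3, 1, 4, 0, 2, 1, 3], 0xfffffffe, 31⟩
noncomputable def lc_l1 : Level := ⟨2, [[0], [2], [4], [6], [8, 0, 8]], [0, 4, 3, 2, 1, 3, 2, 3, 4, 1, 2], 0xfffffffc, 30⟩
noncomputable def lc_l2 : Level := ⟨4, [[2], [4], [6], [0, 2, 0], [8, 0, 8, 2, 8, 0, 8]], [0, 3, 4, 2, 1, 2, 4, 1], 0xfffffff0, 28⟩
noncomputable def lc_l3 : Level := ⟨8, [[4], [6], [2, 4, 2], [0, 2, 0, 4, 0, 2, 0], [8, 0, 8, 2, 8, 0, 8, 4, 8, 0, 8, 2, 8, 0, 8]], [0, 2, 3, 4, 1], 0xffffff00, 24⟩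
noncomputable def lc_l4 : Level := ⟨16, [[6], [4, 6, 4], [2, 4, 2, 6, 2, 4, 2], [0, 2, 0, 4, 0, 2, 0, 6, 0, 2, 0, 4, 0, 2, 0]], [0, 1, 2, 3], 0xffff0000, 16⟩
noncomputable def lc_ls : List Level := [lc_l0, lc_l1, lc_l2, lc_l3, lc_l4]
theorem lc_l0_ok : (ptsOK 5 [] && (wordsIn [0, 2, 4, 6, 8] lc_l0.S && lc_l0.ok 5 l_ns l_ts [])) = true := by decide +kernel
theorem lc_l1_ok : (ptsOK 5 [1] && (wordsIn [0, 2, 4, 6, 8] lc_l1.S && lc_l1.ok 5 l_ns l_ts [1])) = true := by decide +kernel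
theorem lc_l2_ok : (ptsOK 5 [2, 1] && (wordsIn [0, 2, 4, 6, 8] lc_l2.S && lc_l2.ok 5 l_ns l_ts [2, 1])) = true := by decide +kernel
theorem lc_l3_ok : (ptsOK 5 [4, 2, 1] && (wordsIn [0, 2, 4, 6, 8] lc_l3.S && lc_l3.ok 5 l_ns l_ts [4, 2, 1])) = true := by decide +kernel
theorem lc_l4_ok : (ptsOK 5 [8, 4, 2, 1] && (wordsIn [0, 2, 4, 6, 8] lc_l4.S && lc_l4.ok 5 l_ns l_ts [8, 4, 2, 1])) = true := by decide +kernel
theorem lc_sound {G : Type*} [Group G] {φ : G →* Equiv.Perm ℕ} {γ : ℕ → G}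
    (M : Model φ γ 5 l_ns l_ts) : ChainSound φ (gp γ [0, 2, 4, 6, 8]) 5 [] lc_ls :=
  ⟨Level.ok_sound' M lc_l0_ok,
   Level.ok_sound' M lc_l1_ok,
   Level.ok_sound' M lc_l2_ok,
   Level.ok_sound' M lc_l3_ok,
   Level.ok_sound' M lc_l4_ok, trivial⟩
noncomputable def l_gs : List (Matrix.SpecialLinearGroup (Fin 5) (ZMod 2)) := [Matrix.SpecialLinearGroup.transvection (show (0 : Fin 5) ≠ 1 by decide) 1, Matrix.SpecialLinearGroup.transvection (show (1 : Fin 5) ≠ 2 by decide) 1, Matrix.SpecialLinearGroup.transvection (show (2 : Fin 5) ≠ 3 by decide) 1, Matrix.SpecialLinearGroup.transvection (show (3 : Fin 5) ≠ 4 by decide) 1, Matrix.SpecialLinearGroup.transvection (show (4 : Fin 5) ≠ 0 by decide) 1]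
noncomputable def l_X (i : ℕ) (c : Fin 5) : ZMod 2 := if i.testBit c then 1 else 0
theorem l_card : Nat.card (Matrix.SpecialLinearGroup (Fin 5) (ZMod 2)) = 9999360 := by
  rw [GLn.card_SL_eq, ZMod.card]; decide +kernel
theorem l_cert : ∃ φ, Cert φ (fun j => l_gs.getD j 1) 5 l_ns l_ts [0, 2, 4, 6, 8] lc_ls :=
  cert_of_rel' (N := 32) (fun g i j => g.1.mulVec (l_X i) = l_X j) (fun _ _ => Matrix.one_mulVec _)
    (fun x y i j l _ _ _ h1 h2 => by rw [Matrix.SpecialLinearGroup.coe_mul, ← Matrix.mulVec_mulVec, h1, h2])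
    (fun x i j _ _ h1 => by rw [← h1, Matrix.mulVec_mulVec, ← Matrix.SpecialLinearGroup.coe_mul, inv_mul_cancel]; exact Matrix.one_mulVec _)
    (fun i j hi hj h => (show ∀ i < 32, ∀ j < 32, l_X i = l_X j → i = j by decide +kernel) i hi j hj ((Matrix.one_mulVec _).symm.trans h))
    l_v l_ts_ok (fun j hj => List.getD_eq_default _ _ hj)
    (by decide +kernel) (by decide +kernel) lc_sound ⟨inferInstance, l_card.le⟩ (by decide +kernel)

end Cfsg.Agent.Inv
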