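import Cfsg.Agent.Inv.A5
import Cfsg.Agent.Inv.Cent

set_option autoImplicit false
set_option Elab.async false
set_option maxRecDepth 100000
set_option linter.all false

namespace Cfsg.Agent.Inv
open Cfsg.Agent.CGT

open Cfsg.Agent.Inv

noncomputable def z_n0 : Net := Net.cons 2 0x2 <|
  Net.cons 1 0x44 <|
  Net.cons 2 0x23 <|
  Net.nil
noncomputable def z_n1 : Net := Net.cons 8 0x60 <|
  Net.cons 4 0x600 <|
  Net.cons 2 0x200 <|
  Net.cons 1 0x401 <|
  Net.cons 2 0x302 <|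
  Net.cons 4 0x600 <|
  Net.cons 8 0x60 <|
  Net.nil
noncomputable def z_n2 : Net := Net.cons 8 0x60 <|
  Net.cons 4 0x402 <|
  Net.cons 2 0x200 <|
  Net.cons 1 0x410 <|
  Net.cons 2 0x200 <|
  Net.cons 4 0x603 <|
  Net.cons 8 0x60 <|
  Net.nil
noncomputable def z_n3 : Net := Net.cons 8 0x18 <|
  Net.cons 4 0x20a <|
  Net.cons 2 0x220 <|
  Net.cons 1 0x1145 <|
  Net.cons 2 0x220 <|
  Net.cons 4 0x20a <|
  Net.cons 8 0x18 <|
  Net.nil
noncomputable def z_ns : List Net := [z_n0, z_n1, z_n2, z_n3]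
noncomputable def z_R : List (List ℕ) := [[6, 6]]
noncomputable def z_t0 : Tab := (.leaf 0xfedcba9857643021)
noncomputable def z_t1 : Tab := (.leaf 0xfedcba9865743102)
noncomputable def z_t2 : Tab := (.leaf 0xfedcba9578640231)
noncomputable def z_t3 : Tab := (.leaf 0xfedcba9675841203)
noncomputable def z_t4 : Tab := (.leaf 0xfedcba5879603241)
noncomputable def z_t5 : Tab := (.leaf 0xfedcba6875913204)
noncomputable def z_t6 : Tab := (.leaf 0xfedcba4321098765)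
noncomputable def z_ts : List Tab := [z_t0, z_t1, z_t2, z_t3, z_t4, z_t5, z_t6, z_t6]
theorem z_v : validAll (2 ^ 4) z_ns = true := by decide +kernel
theorem z_p : Holds (lp z_ns) z_R := holdsB_sound z_v (by decide +kernel)
theorem z_t0_b : Tab.beq (mkTab 4 0 z_ns 0) z_t0 = true := by decide +kernel
theorem z_t1_b : Tab.beq (mkTab 4 0 z_ns 1) z_t1 = true := by decide +kernel
theorem z_t2_b : Tab.beq (mkTab 4 0 z_ns 2) z_t2 = true := by decide +kernel
theorem z_t3_b : Tab.beq (mkTab 4 0 z_ns 3) z_t3 = true := by decide +kernel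
theorem z_t4_b : Tab.beq (mkTab 4 0 z_ns 4) z_t4 = true := by decide +kernel
theorem z_t5_b : Tab.beq (mkTab 4 0 z_ns 5) z_t5 = true := by decide +kernel
theorem z_t6_b : Tab.beq (mkTab 4 0 z_ns 6) z_t6 = true := by decide +kernel
theorem z_ts_ok : TabsOK 4 (lp z_ns) z_ts :=
  TabsFrom.ok ⟨TabOK.of_beq z_v z_t0_b,
    TabOK.of_beq z_v z_t1_b,
    TabOK.of_beq z_v z_t2_b,
    TabOK.of_beq z_v z_t3_b,
    TabOK.of_beq z_v z_t4_b,
    TabOK.of_beq z_v z_t5_b,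
    TabOK.of_beq z_v z_t6_b,
    TabOK.next (j := 3) (TabOK.of_beq z_v z_t6_b) z_p (by decide +kernel),
    Nat.le_of_ble_eq_true (by decide +kernel)⟩
noncomputable def zc_l0 : Level := ⟨0, [[0], [2], [4], [6]], [0, 3, 0, 1, 2], 0x3ff, 10⟩
noncomputable def zc_l1 : Level := ⟨1, [[1, 2], [1, 4]], [0, 0, 1], 0x1e, 4⟩
noncomputable def zc_l2 : Level := ⟨2, [[1, 2, 5, 0]], [0, 0], 0x1c, 3⟩
noncomputable def zc_ls : List Level := [zc_l0, zc_l1, zc_l2]
theorem zc_l0_ok : (ptsOK 4 [] && (wordsIn [0, 2, 4, 6] zc_l0.S && zc_l0.ok 4 z_ns z_ts [])) = true := by decide +kernel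
theorem zc_l1_ok : (ptsOK 4 [0] && (wordsIn [0, 2, 4, 6] zc_l1.S && zc_l1.ok 4 z_ns z_ts [0])) = true := by decide +kernel
theorem zc_l2_ok : (ptsOK 4 [1, 0] && (wordsIn [0, 2, 4, 6] zc_l2.S && zc_l2.ok 4 z_ns z_ts [1, 0])) = true := by decide +kernel
theorem zc_sound {G : Type*} [Group G] {φ : G →* Equiv.Perm ℕ} {γ : ℕ → G}
    (M : Model φ γ 4 z_ns z_ts) : ChainSound φ (gp γ [0, 2, 4, 6]) 4 [] zc_ls :=
  ⟨Level.ok_sound' M zc_l0_ok,
   Level.ok_sound' M zc_l1_ok,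
   Level.ok_sound' M zc_l2_ok, trivial⟩
noncomputable def z_gs : List (Multiplicative (ZMod 2) × alternatingGroup (Fin 5)) := [(1, ⟨⟨![1, 2, 0, 3, 4], ![2, 0, 1, 3, 4], by decide, by decide⟩, Equiv.Perm.mem_alternatingGroup.2 (by decide +kernel)⟩),
  (1, ⟨⟨![1, 3, 2, 0, 4], ![3, 0, 2, 1, 4], by decide, by decide⟩, Equiv.Perm.mem_alternatingGroup.2 (by decide +kernel)⟩),
  (1, ⟨⟨![1, 4, 2, 3, 0], ![4, 0, 2, 3, 1], by decide, by decide⟩, Equiv.Perm.mem_alternatingGroup.2 (by decide +kernel)⟩), (Multiplicative.ofAdd 1, 1)]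
theorem z_card : Nat.card (Multiplicative (ZMod 2) × alternatingGroup (Fin 5)) = 120 := by
  rw [Nat.card_prod, a5_card]; simp
theorem z_cert : ∃ φ, Cert φ (fun j => z_gs.getD j 1) 4 z_ns z_ts [0, 2, 4, 6] zc_ls :=
  cert_of_rel' (N := 10) (fun g i j => g.1 * Multiplicative.ofAdd ((i / 5 : ℕ) : ZMod 2) = Multiplicative.ofAdd ((j / 5 : ℕ) : ZMod 2) ∧
      g.2 • Fin.ofNat 5 i = Fin.ofNat 5 j) (fun _ _ => ⟨one_mul _, one_smul _ _⟩)
    (fun x y i j l _ _ _ h1 h2 => ⟨by rw [Prod.fst_mul, mul_assoc, h1.1, h2.1], by rw [Prod.snd_mul, mul_smul, h1.2, h2.2]⟩)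
    (fun x i j _ _ h1 => ⟨by rw [← h1.1, Prod.fst_inv, inv_mul_cancel_left], by rw [← h1.2, Prod.snd_inv, inv_smul_smul]⟩)
    (fun i j hi hj => by revert j; revert i; decide +kernel) z_v z_ts_ok (fun j hj => List.getD_eq_default _ _ hj)
    (by decide +kernel) (by decide +kernel) zc_sound ⟨inferInstance, z_card.le⟩ (by decide +kernel)

end Cfsg.Agent.Inv
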